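/-
Conjugates of a subgroup in a nilpotent group.

* `exists_conjugate_normalizing` : if the conjugates of `A` do not all normalize `A`, then some element
  `b` of a conjugate does not normalize `A` while all `b ^ i A b ^ -i` do.
-/
import Cfsg.Agent.EqLemmas

set_option autoImplicit false

namespace Cfsg.Agent.QuadLimit

open Subgroup

variable {G : Type*} [Group G] [Finite G]

/-- The conjugate of `A` by `g`. -/
def conjOf (A : Subgroup G) (g : G) : Subgroup G := A.map (MulAut.conj g).toMonoidHom

theorem mem_conjOf {A : Subgroup G} {g x : G} : x ∈ conjOf A g ↔ g⁻¹ * x * g ∈ A := by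
  refine ⟨?_, fun h => ⟨_, h, by simp [mul_assoc]⟩⟩
  rintro ⟨y, hy, rfl⟩
  simpa [mul_assoc] using hy

theorem exists_conjugate_normalizing [Group.IsNilpotent G] (A : Subgroup G)
    (h : ∃ g : G, ¬ conjOf A g ≤ normalizer (A : Set G)) :
    ∃ g b : G, g⁻¹ * b * g ∈ A ∧ b ∉ normalizer (A : Set G) ∧
      ∀ i : ℤ, ∀ a ∈ A, b ^ i * a * (b ^ i)⁻¹ ∈ normalizer (A : Set G) := by
  set W : Subgroup G := ⨆ g : {g : G // conjOf A g ≤ normalizer (A : Set G)}, conjOf A g.1 with hW
  have hWN : W ≤ normalizer (A : Set G) := iSup_le fun g => g.2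
  have hAW : A ≤ W := by
    refine le_trans ?_ (le_iSup (fun g : {g : G // conjOf A g ≤ normalizer (A : Set G)} =>
      conjOf A g.1) ⟨1, fun x hx => ?_⟩)
    · intro x hx
      exact mem_conjOf.mpr (by simpa using hx)
    · exact Subgroup.le_normalizer (by simpa using mem_conjOf.mp hx)
  by_cases hex : ∃ g : G, conjOf A g ≤ normalizer (W : Set G) ∧ ¬ conjOf A g ≤ W
  · obtain ⟨g, hgN, hgW⟩ := hex
    have hgA : ¬ conjOf A g ≤ normalizer (A : Set G) := fun hle => hgW
      (le_iSup (fun g : {g : G // conjOf A g ≤ normalizer (A : Set G)} => conjOf A g.1) ⟨g, hle⟩)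
    obtain ⟨b, hb, hbn⟩ := SetLike.not_le_iff_exists.mp hgA
    refine ⟨g, b, mem_conjOf.mp hb, hbn, fun i a ha => hWN ?_⟩
    exact (mem_normalizer_iff.mp (zpow_mem (hgN hb) i) a).mp (hAW ha)
  push Not at hex
  exfalso
  set N := normalizer (W : Set G) with hN
  have hNN : normalizer (N : Set G) ≤ N := by
    have hmove : ∀ h ∈ normalizer (N : Set G), ∀ x ∈ W, h * x * h⁻¹ ∈ W := by
      intro h hh x hx
      suffices hle : W ≤ W.comap (MulAut.conj h).toMonoidHom from hle hx
      refine iSup_le fun g => ?_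
      intro y hy
      rw [mem_comap]
      show h * y * h⁻¹ ∈ W
      refine hex (h * g.1) (fun z hz => ?_) (mem_conjOf.mpr ?_)
      · have h1 : h⁻¹ * z * h ∈ conjOf A g.1 := mem_conjOf.mpr (by
          have := mem_conjOf.mp hz
          simpa [mul_assoc] using this)
        have h2 : h⁻¹ * z * h ∈ N := Subgroup.le_normalizer
          (le_iSup (fun g : {g : G // conjOf A g ≤ normalizer (A : Set G)} => conjOf A g.1) g h1)
        have h3 := (mem_normalizer_iff.mp hh _).mp h2
        simpa [mul_assoc] using h3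
      · have := mem_conjOf.mp hy
        simpa [mul_assoc] using this
    intro h hh
    refine mem_normalizer_iff.mpr fun x => ⟨hmove h hh x, fun hx => ?_⟩
    have := hmove h⁻¹ (inv_mem hh) _ hx
    simpa [mul_assoc] using this
  have htop : N = ⊤ := by
    by_contra hne
    exact (Group.normalizerCondition_of_isNilpotent (G := G) N (lt_top_iff_ne_top.mpr hne)).not_ge hNN
  obtain ⟨g, hg⟩ := h
  exact hg ((hex g (htop ▸ le_top)).trans hWN)

end Cfsg.Agent.QuadLimit
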