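/-
Exponentials: three square-zero subgroups normalising each other.

* `conj_facts` : `ab - ba` and `aba`
* `add_mem_of_sq` : a square-zero sum `a + b + c` has `1 + (a + b + c)` in the monoid
-/
import Cfsg.Agent.EqLemmas

set_option autoImplicit false

namespace Cfsg.Agent.QuadLimit

variable {R : Type*} [Ring R] {p : ℕ}

/-- Half of an element. -/
def half (p : ℕ) (y : R) : R := ((p + 1) / 2) • y

theorem two_half (hp : Odd p) (hR : ∀ y : R, p • y = 0) (y : R) : half p y + half p y = y := by
  obtain ⟨k, hk⟩ := hp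
  rw [half, ← add_nsmul, show (p + 1) / 2 + (p + 1) / 2 = p + 1 by omega, add_nsmul, one_nsmul,
    hR, zero_add]

theorem half_mem {L : AddSubgroup R} {y : R} (h : y ∈ L) : half p y ∈ L := nsmul_mem h _

theorem half_add (y z : R) : half p (y + z) = half p y + half p z := nsmul_add _ _ _
theorem half_sub (y z : R) : half p (y - z) = half p y - half p z := smul_sub _ _ _
theorem half_mul (y z : R) : half p y * z = half p (y * z) := smul_mul_assoc _ _ _
theorem mul_half (y z : R) : y * half p z = half p (y * z) := mul_smul_comm _ _ _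
theorem half_zero : half p (0 : R) = 0 := nsmul_zero _

theorem mem_of_two (hp : Odd p) (hR : ∀ y : R, p • y = 0) {L : AddSubgroup R} {y : R}
    (h : y + y ∈ L) : y ∈ L := by
  rw [← two_half hp hR y, ← half_add]
  exact half_mem h

/-- Mutually normalising square-zero subgroups. -/
theorem conj_facts (hp : Odd p) (hR : ∀ y : R, p • y = 0) {A B : AddSubgroup R}
    (hA : ∀ a ∈ A, ∀ a' ∈ A, a * a' = 0)
    (hAB : ∀ a ∈ A, ∀ b ∈ B, (1 + a) * b * (1 - a) ∈ B)
    (hBA : ∀ b ∈ B, ∀ a ∈ A, (1 + b) * a * (1 - b) ∈ A) {a b : R} (ha : a ∈ A) (hb : b ∈ B) :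
    a * b - b * a ∈ A ∧ a * b - b * a ∈ B ∧ a * b * a = 0 := by
  have key : ∀ {A B : AddSubgroup R}, (∀ a ∈ A, ∀ b ∈ B, (1 + a) * b * (1 - a) ∈ B) →
      ∀ {a b : R}, a ∈ A → b ∈ B → a * b - b * a ∈ B := by
    intro A B h a b ha hb
    have h1 := sub_mem (h a ha b hb) (h (-a) (neg_mem ha) b hb)
    have e : (1 + a) * b * (1 - a) - (1 + -a) * b * (1 - -a) =
        (a * b - b * a) + (a * b - b * a) := by noncomm_ring
    rw [e] at h1
    exact mem_of_two hp hR h1
  have hB := key hAB ha hb
  have hA' : a * b - b * a ∈ A := by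
    have := key hBA hb ha
    rw [← neg_sub]
    exact neg_mem this
  refine ⟨hA', hB, ?_⟩
  have h := hA _ hA' _ ha
  rw [sub_mul, mul_assoc b a a, hA a ha a ha, mul_zero, sub_zero] at h
  exact h

/-- A square-zero sum of elements of three mutually normalising subgroups exponentiates. -/
theorem add_mem_of_sq (hp : Odd p) (hR : ∀ y : R, p • y = 0) (Γ : Submonoid R)
    (L : Fin 3 → AddSubgroup R) (hsq : ∀ i, ∀ a ∈ L i, ∀ a' ∈ L i, a * a' = 0)
    (hΓ : ∀ i, ∀ a ∈ L i, 1 + a ∈ Γ)
    (hN : ∀ i j, ∀ a ∈ L i, ∀ b ∈ L j, (1 + a) * b * (1 - a) ∈ L j)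
    {a b c : R} (ha : a ∈ L 0) (hb : b ∈ L 1) (hc : c ∈ L 2)
    (hm : (a + b + c) * (a + b + c) = 0) : 1 + (a + b + c) ∈ Γ := by
  have F := fun i j (y z : R) (hy : y ∈ L i) (hz : z ∈ L j) =>
    conj_facts hp hR (hsq i) (hN i j) (hN j i) hy hz
  obtain ⟨he0, he1, haba⟩ := F 0 1 a b ha hb
  obtain ⟨-, -, hbab⟩ := F 1 0 b a hb ha
  obtain ⟨-, hac, -⟩ := F 0 2 a c ha hc
  obtain ⟨-, hbc, -⟩ := F 1 2 b c hb hc
  obtain ⟨-, -, hcac⟩ := F 2 0 c a hc ha
  obtain ⟨-, -, hcbc⟩ := F 2 1 c b hc hb
  have ha2 := hsq 0 a ha a ha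
  have hb2 := hsq 1 b hb b hb
  have hc2 := hsq 2 c hc c hc
  set n := a + b with hn
  have hn2 : n * n = a * b + b * a := by
    rw [hn, add_mul, mul_add, mul_add, ha2, hb2]; abel
  have hn3 : n * n * n = 0 := by
    rw [hn2, hn, add_mul, mul_add, mul_add, haba, hbab, mul_assoc b a a, ha2, mul_assoc a b b,
      hb2]
    simp
  set f := n * c - c * n with hf
  have hfmem : f ∈ L 2 := by
    have e : f = (a * c - c * a) + (b * c - c * b) := by rw [hf, hn, add_mul, mul_add]; abel
    rw [e]; exact add_mem hac hbc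
  have hcnc : c * n * c = 0 := by rw [hn, mul_add, add_mul, hcac, hcbc, add_zero]
  have hrel : n * n + n * c + c * n = 0 := by
    have e : (a + b + c) * (a + b + c) = n * n + n * c + c * n + c * c := by
      rw [hn]; noncomm_ring
    rw [hm, hc2, add_zero] at e
    exact e.symm
  have hnnc : n * n * c = 0 := by
    have := congrArg (· * c) hrel
    simp only [add_mul, zero_mul, mul_assoc n c c, hc2, mul_zero, hcnc, add_zero] at this
    exact this
  have hcnn : c * n * n = 0 := by
    have := congrArg (c * ·) hrel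
    simp only [mul_add, mul_zero, ← mul_assoc, hc2, zero_mul, hcnc, add_zero] at this
    exact this
  have hncn : n * c * n = 0 := by
    have := congrArg (· * n) hrel
    simp only [add_mul, zero_mul, hn3, hcnn, zero_add, add_zero] at this
    exact this
  -- first factor
  have hae : a * (a * b - b * a) = 0 := hsq 0 a ha _ he0
  have hbe : b * (a * b - b * a) = 0 := hsq 1 b hb _ he1
  have g1 : 1 + n + half p (n * n) ∈ Γ := by
    have h := Γ.mul_mem (Γ.mul_mem (hΓ 0 a ha) (hΓ 1 b hb))
      (hΓ 0 _ (neg_mem (half_mem (p := p) he0)))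
    have e : (1 + a) * (1 + b) * (1 + -half p (a * b - b * a)) =
        1 + n + half p (n * n) := by
      have e1 : (1 + a) * (1 + b) = 1 + n + a * b := by rw [hn]; noncomm_ring
      have e2 : (n + a * b) * half p (a * b - b * a) = 0 := by
        rw [mul_half, add_mul, hn, add_mul, hae, hbe, mul_assoc a b, hbe, mul_zero]
        simp [half_zero]
      have e3 : a * b - half p (a * b - b * a) = half p (n * n) := by
        rw [hn2, half_sub, half_add]
        nth_rewrite 1 [← two_half hp hR (a * b)]
        abel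
      calc (1 + a) * (1 + b) * (1 + -half p (a * b - b * a))
          = 1 + n + (a * b - half p (a * b - b * a)) - (n + a * b) * half p (a * b - b * a) := by
            rw [e1]; noncomm_ring
        _ = _ := by rw [e2, e3, sub_zero]
    rwa [e] at h
  -- second and third factor
  have g2 := Γ.mul_mem (Γ.mul_mem g1 (hΓ 2 c hc)) (hΓ 2 _ (neg_mem (half_mem (p := p) hfmem)))
  have e : (1 + n + half p (n * n)) * (1 + c) * (1 + -half p f) = 1 + (n + c) := by
    have e1 : half p (n * n) + n * c = half p f := by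
      have h1 : n * n + (n * c + n * c) = f := by
        rw [hf]
        calc n * n + (n * c + n * c) = (n * n + n * c + c * n) + (n * c - c * n) := by abel
          _ = _ := by rw [hrel, zero_add]
      rw [← h1, half_add, half_add, two_half hp hR]
    have e2 : (1 + n + half p (n * n)) * (1 + c) = 1 + (n + c) + half p f := by
      calc (1 + n + half p (n * n)) * (1 + c)
          = 1 + (n + c) + (half p (n * n) + n * c) + half p (n * n) * c := by noncomm_ring
        _ = _ := by rw [e1, half_mul, hnnc, half_zero, add_zero]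
    have hf2 : f * f = 0 := hsq 2 f hfmem f hfmem
    have hcf : c * f = 0 := hsq 2 c hc f hfmem
    have hnf : n * f = 0 := by rw [hf, mul_sub, ← mul_assoc, ← mul_assoc, hnnc, hncn, sub_zero]
    have e3 : ((n + c) + half p f) * half p f = 0 := by
      rw [mul_half, add_mul, add_mul, hnf, hcf, half_mul, hf2, half_zero]
      simp [half_zero]
    calc _ = (1 + (n + c) + half p f) * (1 + -half p f) := by rw [e2]
      _ = 1 + (n + c) - ((n + c) + half p f) * half p f := by noncomm_ring
      _ = _ := by rw [e3, sub_zero]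
  rwa [e] at g2

end Cfsg.Agent.QuadLimit
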