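/-
Limits of subgroups of a ring along `t ↦ a(t) ⬝ b(t)`, computed with polynomials in `1/t`.

* `limit`, `card_le_limit` : the limit is at least as large
* `u`, `w` : `(X + x)` and `(X - x)` for `x * x = 0`
* `limit_mul_eq_zero`, `ann_limit_mul`, `exists_expr`, `mem_limit_of_stable`, `top_terms`
-/
import Cfsg.Agent.EqLemmas

set_option autoImplicit false

namespace Cfsg.Agent.QuadLimit

open Polynomial

variable {R : Type*} [Ring R]

/-- The polynomials with all coefficients in `L`. -/
def coeffIn (L : AddSubgroup R) : AddSubgroup R[X] where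
  carrier := {P | ∀ n, P.coeff n ∈ L}
  zero_mem' := fun n => by simp
  add_mem' := fun hP hQ n => by rw [coeff_add]; exact add_mem (hP n) (hQ n)
  neg_mem' := fun hP n => by rw [coeff_neg]; exact neg_mem (hP n)

theorem C_mem_coeffIn {L : AddSubgroup R} {r : R} (h : r ∈ L) : C r ∈ coeffIn L := fun n => by
  rw [coeff_C]; split_ifs
  · exact h
  · exact zero_mem L

theorem X_mul_mem_coeffIn {L : AddSubgroup R} {P : R[X]} (h : P ∈ coeffIn L) :
    X * P ∈ coeffIn L := fun n => by
  rcases n with _ | n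
  · simp
  · rw [coeff_X_mul]; exact h n

theorem X_pow_mul_mem_coeffIn {L : AddSubgroup R} {P : R[X]} (h : P ∈ coeffIn L) (k : ℕ) :
    X ^ k * P ∈ coeffIn L := by
  induction k with
  | zero => simpa using h
  | succ k ih => rw [pow_succ', mul_assoc]; exact X_mul_mem_coeffIn ih

/-- Constant terms of the polynomials mapped into `L` by `P ↦ a * P * b`. -/
def limit (L : AddSubgroup R) (a b : R[X]) : AddSubgroup R where
  carrier := {m | ∃ P : R[X], a * P * b ∈ coeffIn L ∧ P.coeff 0 = m}
  zero_mem' := ⟨0, by simp, coeff_zero 0⟩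
  add_mem' := by
    rintro _ _ ⟨P, hP, rfl⟩ ⟨Q, hQ, rfl⟩
    exact ⟨P + Q, by rw [mul_add, add_mul]; exact add_mem hP hQ, coeff_add P Q 0⟩
  neg_mem' := by
    rintro _ ⟨P, hP, rfl⟩
    exact ⟨-P, by rw [mul_neg, neg_mul]; exact neg_mem hP, coeff_neg P 0⟩

theorem mem_limit {L : AddSubgroup R} {a b : R[X]} {m : R} :
    m ∈ limit L a b ↔ ∃ P : R[X], a * P * b ∈ coeffIn L ∧ P.coeff 0 = m := Iff.rfl

theorem limit_mono {L L' : AddSubgroup R} (h : L ≤ L') (a b : R[X]) :
    limit L a b ≤ limit L' a b :=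
  fun _ ⟨P, hP, hm⟩ => ⟨P, fun n => h (hP n), hm⟩

/-- Dividing by `X`. -/
theorem mem_of_X_mul {L : AddSubgroup R} {a b P : R[X]} (h : a * (X * P) * b ∈ coeffIn L) :
    a * P * b ∈ coeffIn L := fun n => by
  have e : a * (X * P) * b = X * (a * P * b) := by
    rw [← mul_assoc a X P, ← X_mul, mul_assoc X, mul_assoc X]
  have := h (n + 1)
  rwa [e, coeff_X_mul] at this

section card

variable [Finite R]

/-- The polynomials of degree less than `n` mapped into `L`. -/
def Trunc (L : AddSubgroup R) (a b : R[X]) (n : ℕ) : Type _ :=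
  {P : R[X] // a * P * b ∈ coeffIn L ∧ ∀ k, n ≤ k → P.coeff k = 0}

instance (L : AddSubgroup R) (a b : R[X]) (n : ℕ) : Finite (Trunc L a b n) :=
  Finite.of_injective (β := Fin n → R) (fun P k => P.1.coeff k) fun P Q h => Subtype.ext <| by
    ext k
    rcases lt_or_ge k n with hk | hk
    · exact congrFun h ⟨k, hk⟩
    · rw [P.2.2 k hk, Q.2.2 k hk]

theorem card_trunc_le (L : AddSubgroup R) (a b : R[X]) :
    ∀ n : ℕ, Nat.card (Trunc L a b n) ≤ Nat.card (limit L a b) ^ n := by
  intro n
  induction n with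
  | zero =>
    haveI : Subsingleton (Trunc L a b 0) := ⟨fun P Q => Subtype.ext <| by
      ext k; rw [P.2.2 k (Nat.zero_le k), Q.2.2 k (Nat.zero_le k)]⟩
    rw [pow_zero]
    exact Finite.card_le_one_iff_subsingleton.mpr inferInstance
  | succ n ih =>
    classical
    let sel : R → R[X] := fun m =>
      if h : ∃ Q : Trunc L a b (n + 1), Q.1.coeff 0 = m then h.choose.1 else 0
    have hsel : ∀ P : Trunc L a b (n + 1),
        (a * sel (P.1.coeff 0) * b ∈ coeffIn L ∧ ∀ k, n + 1 ≤ k → (sel (P.1.coeff 0)).coeff k = 0) ∧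
          (sel (P.1.coeff 0)).coeff 0 = P.1.coeff 0 := by
      intro P
      have h : ∃ Q : Trunc L a b (n + 1), Q.1.coeff 0 = P.1.coeff 0 := ⟨P, rfl⟩
      simp only [sel, dif_pos h]
      exact ⟨h.choose.2, h.choose_spec⟩
    have hdiv : ∀ P : Trunc L a b (n + 1),
        a * divX (P.1 - sel (P.1.coeff 0)) * b ∈ coeffIn L ∧
          ∀ k, n ≤ k → (divX (P.1 - sel (P.1.coeff 0))).coeff k = 0 := by
      intro P
      refine ⟨mem_of_X_mul ?_, fun k hk => ?_⟩
      · have e := X_mul_divX_add (P.1 - sel (P.1.coeff 0))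
        rw [coeff_sub, (hsel P).2, sub_self, map_zero, add_zero] at e
        rw [e, mul_sub, sub_mul]
        exact sub_mem P.2.1 (hsel P).1.1
      · rw [coeff_divX, coeff_sub, P.2.2 _ (by omega), (hsel P).1.2 _ (by omega), sub_self]
    calc Nat.card (Trunc L a b (n + 1))
        ≤ Nat.card (limit L a b × Trunc L a b n) := by
          refine Nat.card_le_card_of_injective
            (fun P => (⟨P.1.coeff 0, P.1, P.2.1, rfl⟩, ⟨_, hdiv P⟩)) fun P Q h => ?_
          have h1 : P.1.coeff 0 = Q.1.coeff 0 := congrArg (fun x => (x.1 : R)) h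
          have h2 : divX (P.1 - sel (P.1.coeff 0)) = divX (Q.1 - sel (Q.1.coeff 0)) :=
            congrArg (fun x => x.2.1) h
          have eP := X_mul_divX_add (P.1 - sel (P.1.coeff 0))
          have eQ := X_mul_divX_add (Q.1 - sel (Q.1.coeff 0))
          rw [coeff_sub, (hsel P).2, sub_self, map_zero, add_zero] at eP
          rw [coeff_sub, (hsel Q).2, sub_self, map_zero, add_zero] at eQ
          rw [h2, eQ, h1] at eP
          exact Subtype.ext (sub_left_injective eP.symm)
      _ = Nat.card (limit L a b) * Nat.card (Trunc L a b n) := Nat.card_prod _ _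
      _ ≤ Nat.card (limit L a b) ^ (n + 1) := by
          rw [pow_succ']; exact Nat.mul_le_mul_left _ ih

/-- The limit is at least as large as `L`. -/
theorem card_le_limit (L : AddSubgroup R) {a b a' b' : R[X]} {i j : ℕ}
    (ha : a * a' = X ^ i) (hb : b' * b = X ^ j) : Nat.card L ≤ Nat.card (limit L a b) := by
  set d := a'.natDegree + b'.natDegree + 1 with hd
  set e := Nat.card (limit L a b) with he
  have key : ∀ n : ℕ, Nat.card L ^ n ≤ e ^ (n + d) := by
    intro n
    refine le_trans ?_ (card_trunc_le L a b (n + d))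
    rw [show Nat.card L ^ n = Nat.card (Fin n → L) by rw [Nat.card_fun, Nat.card_fin]]
    let Q : (Fin n → L) → R[X] := fun q => ∑ k : Fin n, monomial (k : ℕ) (q k : R)
    have hQc : ∀ q k, (Q q).coeff k = if h : k < n then (q ⟨k, h⟩ : R) else 0 := by
      intro q k
      simp only [Q, finsetSum_coeff, coeff_monomial]
      split_ifs with h
      · rw [Finset.sum_eq_single (⟨k, h⟩ : Fin n)]
        · simp
        · intro x _ hx; rw [if_neg fun e => hx (Fin.ext e)]
        · simp
      · exact Finset.sum_eq_zero fun x _ => by rw [if_neg]; have := x.2; omega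
    have hQdeg : ∀ q, (Q q).natDegree ≤ n := fun q =>
      natDegree_le_iff_coeff_eq_zero.mpr fun k hk => by rw [hQc, dif_neg (by omega)]
    have hprod : ∀ q, a * (a' * Q q * b') * b = X ^ (i + j) * Q q := by
      intro q
      calc a * (a' * Q q * b') * b = (a * a') * Q q * (b' * b) := by simp only [mul_assoc]
        _ = X ^ (i + j) * Q q := by
            rw [ha, hb, mul_assoc, ← (commute_X_pow (Q q) j).eq, ← mul_assoc, ← pow_add]
    refine Nat.card_le_card_of_injective
      (fun q => (⟨a' * Q q * b', ?_, fun k hk => ?_⟩ : Trunc L a b (n + d))) fun q q' h => ?_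
    · intro k
      rw [hprod, coeff_X_pow_mul']
      split_ifs
      · rw [hQc]; split_ifs
        · exact SetLike.coe_mem _
        · exact zero_mem L
      · exact zero_mem L
    · refine coeff_eq_zero_of_natDegree_lt (lt_of_le_of_lt natDegree_mul_le ?_)
      have h1 : (a' * Q q).natDegree ≤ a'.natDegree + (Q q).natDegree := natDegree_mul_le
      have := hQdeg q
      omega
    · have h1 : a' * Q q * b' = a' * Q q' * b' := congrArg (fun x => x.1) h
      have h2 : X ^ (i + j) * Q q = X ^ (i + j) * Q q' := by rw [← hprod, h1, hprod]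
      funext k
      have h3 := congrArg (fun P => P.coeff ((k : ℕ) + (i + j))) h2
      simp only [coeff_X_pow_mul, hQc, k.2, dite_true] at h3
      exact Subtype.ext h3
  by_contra hlt
  rw [not_le] at hlt
  have he1 : 0 < e := Nat.card_pos
  set n := e ^ (d + 1) + 1 with hn
  have h1 : (e + 1) ^ n ≤ e ^ (n + d) := (Nat.pow_le_pow_left hlt n).trans (key n)
  have h2 : e ^ n + n * e ^ (n - 1) ≤ (e + 1) ^ n := by
    have aux : ∀ m : ℕ, e ^ (m + 1) + (m + 1) * e ^ m ≤ (e + 1) ^ (m + 1) := by
      intro m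
      induction m with
      | zero => simp
      | succ m ih =>
        calc e ^ (m + 1 + 1) + (m + 1 + 1) * e ^ (m + 1)
            ≤ e ^ (m + 1 + 1) + (m + 1 + 1) * e ^ (m + 1) + (m + 1) * e ^ m := Nat.le_add_right _ _
          _ = (e + 1) * (e ^ (m + 1) + (m + 1) * e ^ m) := by ring
          _ ≤ (e + 1) ^ (m + 1 + 1) := by rw [pow_succ' (e + 1)]; exact Nat.mul_le_mul_left _ ih
    have := aux (e ^ (d + 1))
    simpa [hn] using this
  have h3 : e ^ (n + d) < n * e ^ (n - 1) := by
    rw [show n + d = (d + 1) + (n - 1) by omega, pow_add]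
    exact Nat.mul_lt_mul_of_pos_right (by omega) (pow_pos he1 _)
  omega

end card

section conj

variable (x : R)

/-- `X + x`. -/
noncomputable def u : R[X] := X + C x
/-- `X - x`. -/
noncomputable def w : R[X] := X - C x

theorem u_mul_w (hx : x * x = 0) : u x * w x = X ^ 2 := by
  rw [u, w, add_mul, mul_sub, mul_sub, ← map_mul, hx, map_zero, X_mul (p := C x), sq]
  abel

theorem w_mul_u (hx : x * x = 0) : w x * u x = X ^ 2 := by
  rw [u, w, sub_mul, mul_add, mul_add, ← map_mul, hx, map_zero, X_mul (p := C x), sq]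
  abel

theorem mul_eq_zero_of_coeffIn {A B : AddSubgroup R} (h : ∀ a ∈ A, ∀ b ∈ B, a * b = 0)
    {P Q : R[X]} (hP : P ∈ coeffIn A) (hQ : Q ∈ coeffIn B) : P * Q = 0 := by
  ext n
  rw [coeff_mul, coeff_zero]
  exact Finset.sum_eq_zero fun k _ => h _ (hP _) _ (hQ _)

theorem eq_zero_of_X_pow_mul {P : R[X]} {k : ℕ} (h : X ^ k * P = 0) : P = 0 := by
  ext n
  have := congrArg (fun Q => Q.coeff (n + k)) h
  simpa [coeff_X_pow_mul] using this

/-- If `L` squares to zero so does its limit. -/
theorem limit_mul_eq_zero (hx : x * x = 0) {L : AddSubgroup R}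
    (hL : ∀ a ∈ L, ∀ b ∈ L, a * b = 0) {m m' : R} (hm : m ∈ limit L (w x) (u x))
    (hm' : m' ∈ limit L (w x) (u x)) : m * m' = 0 := by
  obtain ⟨P, hP, rfl⟩ := hm
  obtain ⟨P', hP', rfl⟩ := hm'
  have h := mul_eq_zero_of_coeffIn hL hP hP'
  have h' : X ^ 6 * (P * P') = 0 := by
    calc X ^ 6 * (P * P') = X ^ 2 * P * (X ^ 2 * P') * X ^ 2 := by
          rw [show (6 : ℕ) = 2 + 2 + 2 from rfl, pow_add, pow_add]
          simp only [mul_assoc]
          rw [← (commute_X_pow P' 2).eq, ← mul_assoc (X ^ 2) P, (commute_X_pow P 2).eq]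
          simp only [mul_assoc]
          rw [← mul_assoc (X ^ 2) P, (commute_X_pow P 2).eq]
          simp only [mul_assoc]
      _ = u x * (w x * P * u x * (w x * P' * u x)) * w x := by
          simp only [mul_assoc]
          rw [u_mul_w x hx]
          simp only [← mul_assoc]
          rw [u_mul_w x hx]
          simp only [mul_assoc]
          rw [← mul_assoc (u x) (w x), u_mul_w x hx]
      _ = 0 := by rw [h, mul_zero, zero_mul]
  rw [← mul_coeff_zero, eq_zero_of_X_pow_mul h', coeff_zero]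

/-- The limit of the right annihilator annihilates the limit. -/
theorem ann_limit_mul (hx : x * x = 0) {L B : AddSubgroup R}
    (hLB : ∀ a ∈ L, ∀ b ∈ B, a * b = 0) {m r : R} (hm : m ∈ limit L (w x) (u x))
    (hr : r ∈ limit B (w x) 1) : m * r = 0 := by
  obtain ⟨P, hP, rfl⟩ := hm
  obtain ⟨P', hP', rfl⟩ := hr
  rw [mul_one] at hP'
  have h := mul_eq_zero_of_coeffIn hLB hP hP'
  have h' : X ^ 4 * (P * P') = 0 := by
    calc X ^ 4 * (P * P') = X ^ 2 * P * (X ^ 2 * P') := by
          rw [show (4 : ℕ) = 2 + 2 from rfl, pow_add]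
          simp only [mul_assoc]
          rw [← mul_assoc (X ^ 2) P, (commute_X_pow P 2).eq]
          simp only [mul_assoc]
      _ = u x * (w x * P * u x * (w x * P')) := by
          simp only [← mul_assoc]
          rw [u_mul_w x hx]
          simp only [mul_assoc]
          rw [← mul_assoc (u x) (w x), u_mul_w x hx]
      _ = 0 := by rw [h, mul_zero]
  rw [← mul_coeff_zero, eq_zero_of_X_pow_mul h', coeff_zero]

theorem u_mul_w_expand (Q : R[X]) :
    u x * Q * w x = X * (X * Q) + X * (C x * Q - Q * C x) - C x * Q * C x := by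
  rw [u, w, add_mul, mul_sub, add_mul, add_mul, mul_sub, mul_assoc X Q X, mul_assoc (C x) Q X,
    ← X_mul (p := Q), ← mul_assoc (C x) X Q, ← X_mul (p := C x)]
  simp only [mul_assoc]
  abel

theorem w_mul_u_expand (Q : R[X]) :
    w x * Q * u x = X * (X * Q) - X * (C x * Q - Q * C x) - C x * Q * C x := by
  rw [u, w, sub_mul, mul_add, sub_mul, sub_mul, mul_sub, mul_assoc X Q X, mul_assoc (C x) Q X,
    ← X_mul (p := Q), ← mul_assoc (C x) X Q, ← X_mul (p := C x)]
  simp only [mul_assoc]
  abel

/-- Elements of the limit in terms of `L`. -/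
theorem exists_expr (hx : x * x = 0) {L : AddSubgroup R} {m : R}
    (hm : m ∈ limit L (w x) (u x)) :
    ∃ q2 ∈ L, ∃ q3 ∈ L, ∃ q4 ∈ L, m = q2 + (x * q3 - q3 * x) - x * q4 * x := by
  obtain ⟨P, hP, rfl⟩ := hm
  set Q := w x * P * u x with hQ
  refine ⟨_, hP 2, _, hP 3, _, hP 4, ?_⟩
  have e : u x * Q * w x = X ^ 4 * P := by
    calc u x * Q * w x = (u x * w x) * P * (u x * w x) := by rw [hQ]; simp only [mul_assoc]
      _ = X ^ 4 * P := by
          rw [u_mul_w x hx, mul_assoc, ← (commute_X_pow P 2).eq, ← mul_assoc, ← pow_add]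
  have := congrArg (fun Z => Z.coeff 4) e
  simp only [u_mul_w_expand, coeff_sub, coeff_add, coeff_X_mul, coeff_C_mul, coeff_mul_C] at this
  rw [this, show (4 : ℕ) = 0 + 4 from rfl, coeff_X_pow_mul]

/-- An element stable under `x` lies in the limit. -/
theorem mem_limit_of_stable {L : AddSubgroup R} {k : R} (hk : k ∈ L)
    (h1 : x * k - k * x ∈ L) (h2 : x * k * x ∈ L) : k ∈ limit L (w x) (u x) := by
  refine ⟨C k, ?_, coeff_C_zero⟩
  rw [w_mul_u_expand, ← map_mul, ← map_mul, ← map_sub, ← map_mul]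
  exact sub_mem (sub_mem (X_mul_mem_coeffIn (X_mul_mem_coeffIn (C_mem_coeffIn hk)))
    (X_mul_mem_coeffIn (C_mem_coeffIn h1))) (C_mem_coeffIn h2)

/-- The leading terms of `l`. -/
theorem top_terms (hx : x * x = 0) {L : AddSubgroup R} {l : R} (hl : l ∈ L) :
    -(x * l * x) ∈ limit L (w x) (u x) ∧
      (-(x * l * x) ∈ L → x * (-(x * l * x)) - (-(x * l * x)) * x ∈ L →
        x * (-(x * l * x)) * x ∈ L → x * l - l * x ∈ limit L (w x) (u x)) := by
  set k := -(x * l * x) with hk
  have hP : w x * (u x * C l * w x) * u x ∈ coeffIn L := by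
    have e : w x * (u x * C l * w x) * u x = X ^ 4 * C l := by
      calc w x * (u x * C l * w x) * u x = (w x * u x) * C l * (w x * u x) := by
            simp only [mul_assoc]
        _ = X ^ 4 * C l := by
            rw [w_mul_u x hx, mul_assoc, ← (commute_X_pow (C l) 2).eq, ← mul_assoc, ← pow_add]
    rw [e]
    exact X_pow_mul_mem_coeffIn (C_mem_coeffIn hl) 4
  have hPexp : u x * C l * w x = X * (X * C l + C (x * l - l * x)) + C k := by
    rw [u_mul_w_expand, ← map_mul, ← map_mul, ← map_sub, ← map_mul, hk, map_neg, mul_add]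
    abel
  refine ⟨⟨_, hP, ?_⟩, fun h0 h1 h2 => ?_⟩
  · rw [hPexp]
    simp
  · refine ⟨X * C l + C (x * l - l * x), mem_of_X_mul ?_, by simp⟩
    have hC : w x * C k * u x ∈ coeffIn L := by
      rw [w_mul_u_expand, ← map_mul, ← map_mul, ← map_sub, ← map_mul]
      exact sub_mem (sub_mem (X_mul_mem_coeffIn (X_mul_mem_coeffIn (C_mem_coeffIn h0)))
        (X_mul_mem_coeffIn (C_mem_coeffIn h1))) (C_mem_coeffIn h2)
    rw [show X * (X * C l + C (x * l - l * x)) = u x * C l * w x - C k by rw [hPexp]; abel,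
      mul_sub, sub_mul]
    exact sub_mem hP hC

end conj

end Cfsg.Agent.QuadLimit
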