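/-
Quadratic offenders normal in their normal closure.

* `Good`, `annR`, `fix`
* `exists_normal` : a square-zero subgroup can be replaced by one, no worse as an offender, normalized by
  all its conjugates.
-/
import Cfsg.Agent.Lib.QuadLimit.Limit
import Cfsg.Agent.Lib.QuadLimit.Exp
import Cfsg.Agent.Lib.QuadLimit.Conjugates

set_option autoImplicit false

namespace Cfsg.Agent.QuadLimit

open Polynomial

variable {R : Type*} [Ring R] {G : Type*} [Group G] {p : ℕ} (ρ : G →* R)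

/-- Square-zero subgroups exponentiating into the image of `ρ`. -/
def Good (L : AddSubgroup R) : Prop :=
  (∀ a ∈ L, ∀ b ∈ L, a * b = 0) ∧ ∀ a ∈ L, 1 + a ∈ MonoidHom.mrange ρ

/-- The right annihilator. -/
def annR (L : AddSubgroup R) : AddSubgroup R where
  carrier := {r | ∀ a ∈ L, a * r = 0}
  zero_mem' := fun a _ => mul_zero a
  add_mem' := fun hr hs a ha => by rw [mul_add, hr a ha, hs a ha, add_zero]
  neg_mem' := fun hr a ha => by rw [mul_neg, hr a ha, neg_zero]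

/-- Conjugation by `ρ g`. -/
def conjHom (g : G) : R →+ R :=
  (AddMonoidHom.mulLeft (ρ g)).comp (AddMonoidHom.mulRight (ρ g⁻¹))

theorem conjHom_apply (g : G) (y : R) : conjHom ρ g y = ρ g * (y * ρ g⁻¹) := rfl

theorem conjHom_mul (g h : G) (y : R) : conjHom ρ g (conjHom ρ h y) = conjHom ρ (g * h) y := by
  simp only [conjHom_apply, mul_inv_rev, map_mul, mul_assoc]

theorem conjHom_one (y : R) : conjHom ρ 1 y = y := by simp [conjHom_apply]

theorem conjHom_sub_one (g x : G) : conjHom ρ g (ρ x - 1) = ρ (g * x * g⁻¹) - 1 := by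
  rw [conjHom_apply, sub_mul, one_mul, mul_sub, ← map_mul, ← map_mul, ← map_mul, mul_inv_cancel,
    map_one, mul_assoc]

/-- The ascending series of fixed points of conjugation. -/
def fix : ℕ → AddSubgroup R
  | 0 => ⊥
  | i + 1 => ⨅ g : G, (fix i).comap (conjHom ρ g - AddMonoidHom.id R)

theorem mem_fix_succ {i : ℕ} {y : R} :
    y ∈ fix ρ (i + 1) ↔ ∀ g : G, conjHom ρ g y - y ∈ fix ρ i := by
  simp [fix, AddSubgroup.mem_iInf]

theorem fix_mono_succ (i : ℕ) : fix ρ i ≤ fix ρ (i + 1) := by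
  induction i with
  | zero => exact bot_le
  | succ i ih => exact fun y hy => (mem_fix_succ ρ).mpr fun g => ih ((mem_fix_succ ρ).mp hy g)

theorem fix_invariant (i : ℕ) (g : G) {y : R} (hy : y ∈ fix ρ i) : conjHom ρ g y ∈ fix ρ i := by
  have := (mem_fix_succ ρ).mp (fix_mono_succ ρ i hy) g
  have := add_mem this hy
  rwa [sub_add_cancel] at this

theorem exists_fix_eq_top [Finite R] [hp : Fact p.Prime] (hG : IsPGroup p G)
    (hR : ∀ y : R, p • y = 0) : ∃ N : ℕ, fix ρ N = ⊤ := by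
  classical
  have step : ∀ i, fix ρ i ≠ ⊤ → fix ρ i < fix ρ (i + 1) := by
    intro i hi
    refine lt_of_le_of_ne (fix_mono_succ ρ i) fun heq => hi ?_
    set U := R ⧸ fix ρ i
    let φ : G → U →+ U := fun g =>
      QuotientAddGroup.map (fix ρ i) (fix ρ i) (conjHom ρ g) fun y hy => fix_invariant ρ i g hy
    let inst : MulAction G U :=
      { smul := fun g y => φ g y
        one_smul := fun y => by
          induction y using QuotientAddGroup.induction_on with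
          | _ y => exact congrArg QuotientAddGroup.mk (conjHom_one ρ y)
        mul_smul := fun g h y => by
          induction y using QuotientAddGroup.induction_on with
          | _ y => exact congrArg QuotientAddGroup.mk (conjHom_mul ρ g h y).symm }
    by_contra hne
    haveI : Nontrivial U := QuotientAddGroup.nontrivial_iff.mpr hne
    haveI : Finite U := inferInstance
    have hpU : p ∣ Nat.card U := by
      obtain ⟨z, hz⟩ := exists_ne (0 : U)
      have : addOrderOf z = p := addOrderOf_eq_prime (by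
        induction z using QuotientAddGroup.induction_on with
        | _ y => rw [← QuotientAddGroup.mk_nsmul, hR, QuotientAddGroup.mk_zero]) hz
      exact this ▸ addOrderOf_dvd_natCard z
    have h0 : (0 : U) ∈ MulAction.fixedPoints G U := fun g => (φ g).map_zero
    obtain ⟨z, hz, hzne⟩ := hG.exists_fixed_point_of_prime_dvd_card_of_fixed_point U hpU h0
    induction z using QuotientAddGroup.induction_on with
    | _ y =>
      refine hzne.symm ((QuotientAddGroup.eq_zero_iff y).mpr (heq.symm ▸ (mem_fix_succ ρ).mpr ?_))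
      intro g
      exact (QuotientAddGroup.eq_iff_sub_mem).mp (hz g)
  by_contra hne
  push Not at hne
  exact not_injective_infinite_finite (fix ρ)
    (strictMono_nat_of_lt_succ fun i => step i (hne i)).injective

/-- The core replacement step and the choice of a maximum. -/
theorem exists_normal [Finite R] [Finite G] [hp : Fact p.Prime] (hp2 : p ≠ 2) (hG : IsPGroup p G)
    (hR : ∀ y : R, p • y = 0) (L0 : AddSubgroup R) (hL0 : Good ρ L0) :
    ∃ A : Subgroup G, (∀ x, x ∈ A → ∀ y, y ∈ A → (ρ x - 1) * (ρ y - 1) = 0) ∧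
      Nat.card L0 ≤ Nat.card A ∧
      Nat.card (annR L0) ≤ Nat.card {r : R // ∀ x ∈ A, (ρ x - 1) * r = 0} ∧
      ∀ g : G, conjOf A g ≤ Subgroup.normalizer (A : Set G) := by
  classical
  have hodd : Odd p := hp.out.odd_of_ne_two hp2
  obtain ⟨N, hN⟩ := exists_fix_eq_top ρ hG hR
  let S : Set (AddSubgroup R) :=
    {L | Good ρ L ∧ Nat.card L0 ≤ Nat.card L ∧ Nat.card (annR L0) ≤ Nat.card (annR L)}
  let μ : AddSubgroup R → ℕ := fun L => ∑ i ∈ Finset.range (N + 1), Nat.card (L ⊓ fix ρ i : AddSubgroup R)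
  obtain ⟨L, ⟨hL, hLc, hLa⟩, hmax⟩ := Set.exists_max_image S μ (Set.toFinite _) ⟨L0, hL0, le_rfl, le_rfl⟩
  -- the subgroup attached to `L`
  have hinv : ∀ x : G, ρ x - 1 ∈ L → ρ x⁻¹ = 1 - (ρ x - 1) := by
    intro x hx
    have h : ρ x⁻¹ * ρ x = 1 := by rw [← map_mul, inv_mul_cancel, map_one]
    calc ρ x⁻¹ = ρ x⁻¹ * ((ρ x) * (1 - (ρ x - 1))) := by
          have e : ρ x * (1 - (ρ x - 1)) = 1 := by
            have h2 := hL.1 _ hx _ hx
            calc ρ x * (1 - (ρ x - 1)) = 1 - (ρ x - 1) * (ρ x - 1) := by noncomm_ring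
              _ = 1 := by rw [h2, sub_zero]
          rw [e, mul_one]
      _ = 1 - (ρ x - 1) := by rw [← mul_assoc, h, one_mul]
  let A : Subgroup G :=
    { carrier := {x | ρ x - 1 ∈ L}
      one_mem' := by simp
      mul_mem' := fun {x y} hx hy => by
        show ρ (x * y) - 1 ∈ L
        have e : ρ x * ρ y - 1 = (ρ x - 1) + (ρ y - 1) + (ρ x - 1) * (ρ y - 1) := by noncomm_ring
        rw [map_mul, e, hL.1 _ hx _ hy, add_zero]
        exact add_mem hx hy
      inv_mem' := fun {x} hx => by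
        show ρ x⁻¹ - 1 ∈ L
        rw [hinv x hx, sub_sub_cancel_left]
        exact neg_mem hx }
  have hmemA : ∀ x, x ∈ A ↔ ρ x - 1 ∈ L := fun _ => Iff.rfl
  have hsurj : ∀ l ∈ L, ∃ x ∈ A, ρ x - 1 = l := fun l hl => by
    obtain ⟨x, hx⟩ := hL.2 l hl
    exact ⟨x, by rw [hmemA, hx, add_sub_cancel_left]; exact hl, by rw [hx, add_sub_cancel_left]⟩
  refine ⟨A, fun x hx y hy => hL.1 _ hx _ hy, hLc.trans ?_, hLa.trans (le_of_eq ?_), ?_⟩
  · exact Nat.card_le_card_of_surjective (fun x : A => (⟨ρ x.1 - 1, x.2⟩ : L)) fun l => by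
      obtain ⟨x, hx, he⟩ := hsurj l l.2
      exact ⟨⟨x, hx⟩, Subtype.ext he⟩
  · refine Nat.card_congr (Equiv.subtypeEquivRight fun r => ⟨fun h x hx => h _ hx, fun h a ha => ?_⟩)
    obtain ⟨x, hx, rfl⟩ := hsurj a ha
    exact h x hx
  by_contra hbad
  push Not at hbad
  haveI := hG.isNilpotent
  obtain ⟨g, b, hgb, hbA, hbW⟩ := exists_conjugate_normalizing A hbad
  -- the element `x₀`
  set x0 := ρ b - 1 with hx0
  have hb0 : x0 * x0 = 0 := by
    have h := hL.1 _ hgb _ hgb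
    have e : x0 = conjHom ρ g (ρ (g⁻¹ * b * g) - 1) := by
      rw [conjHom_sub_one, hx0]; group
    rw [e, conjHom_apply, mul_assoc, mul_assoc, ← mul_assoc (ρ g⁻¹) (ρ g), ← map_mul,
      inv_mul_cancel, map_one, one_mul, ← mul_assoc (ρ (g⁻¹ * b * g) - 1) (ρ (g⁻¹ * b * g) - 1),
      h, zero_mul, mul_zero]
  have hρb : ρ b = 1 + x0 := by rw [hx0]; abel
  have hρb' : ρ b⁻¹ = 1 - x0 := by
    have h : ρ b⁻¹ * ρ b = 1 := by rw [← map_mul, inv_mul_cancel, map_one]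
    have e : ρ b * (1 - x0) = 1 := by
      calc ρ b * (1 - x0) = 1 - x0 * x0 := by rw [hρb]; noncomm_ring
        _ = 1 := by rw [hb0, sub_zero]
    calc ρ b⁻¹ = ρ b⁻¹ * (ρ b * (1 - x0)) := by rw [e, mul_one]
      _ = 1 - x0 := by rw [← mul_assoc, h, one_mul]
  have hcb : ∀ l, conjHom ρ b l = l + (x0 * l - l * x0) - x0 * l * x0 := by
    intro l; rw [conjHom_apply, hρb, hρb']; noncomm_ring
  have hcb' : ∀ l, conjHom ρ b⁻¹ l = l - (x0 * l - l * x0) - x0 * l * x0 := by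
    intro l; rw [conjHom_apply, inv_inv, hρb, hρb']; noncomm_ring
  -- the three subgroups
  let e : Fin 3 → ℤ := ![0, 1, -1]
  let M : Fin 3 → AddSubgroup R := fun i => L.map (conjHom ρ (b ^ e i))
  have hMsq : ∀ i, ∀ y ∈ M i, ∀ y' ∈ M i, y * y' = 0 := by
    rintro i _ ⟨l, hl, rfl⟩ _ ⟨l', hl', rfl⟩
    simp only [conjHom_apply, mul_assoc]
    rw [← mul_assoc (ρ (b ^ e i)⁻¹) (ρ (b ^ e i)), ← map_mul, inv_mul_cancel, map_one, one_mul,
      ← mul_assoc l l', hL.1 l hl l' hl', zero_mul, mul_zero]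
  have hMmem : ∀ i, ∀ y ∈ M i, ∃ x ∈ A, y = ρ (b ^ e i * x * (b ^ e i)⁻¹) - 1 := by
    rintro i _ ⟨l, hl, rfl⟩
    obtain ⟨x, hx, rfl⟩ := hsurj l hl
    exact ⟨x, hx, conjHom_sub_one ρ _ _⟩
  have hMΓ : ∀ i, ∀ y ∈ M i, 1 + y ∈ MonoidHom.mrange ρ := by
    intro i y hy
    obtain ⟨x, -, rfl⟩ := hMmem i y hy
    exact ⟨_, by rw [add_sub_cancel]⟩
  have hMN : ∀ i j, ∀ y ∈ M i, ∀ y' ∈ M j, (1 + y) * y' * (1 - y) ∈ M j := by
    intro i j y hy y' hy'
    obtain ⟨x, hx, rfl⟩ := hMmem i y hy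
    obtain ⟨x', hx', rfl⟩ := hMmem j y' hy'
    set X := b ^ e i * x * (b ^ e i)⁻¹ with hX
    have hXsq := hMsq i _ hy _ hy
    have hXinv : ρ X⁻¹ = 1 - (ρ X - 1) := by
      have h : ρ X⁻¹ * ρ X = 1 := by rw [← map_mul, inv_mul_cancel, map_one]
      have e1 : ρ X * (1 - (ρ X - 1)) = 1 := by
        calc ρ X * (1 - (ρ X - 1)) = 1 - (ρ X - 1) * (ρ X - 1) := by noncomm_ring
          _ = 1 := by rw [hXsq, sub_zero]
      calc ρ X⁻¹ = ρ X⁻¹ * (ρ X * (1 - (ρ X - 1))) := by rw [e1, mul_one]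
        _ = _ := by rw [← mul_assoc, h, one_mul]
    have hn := hbW (e i - e j) x hx
    have hn' := (Subgroup.mem_normalizer_iff.mp hn x').mp hx'
    set x'' := b ^ (e i - e j) * x * (b ^ (e i - e j))⁻¹ * x' *
      (b ^ (e i - e j) * x * (b ^ (e i - e j))⁻¹)⁻¹ with hx''
    refine ⟨ρ x'' - 1, hn', ?_⟩
    rw [conjHom_sub_one, add_sub_cancel]
    calc ρ (b ^ e j * x'' * (b ^ e j)⁻¹) - 1
        = ρ (X * (b ^ e j * x' * (b ^ e j)⁻¹) * X⁻¹) - 1 := by
          rw [hx'', hX, zpow_sub]; group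
      _ = _ := by rw [← conjHom_sub_one, conjHom_apply, hXinv]; simp only [mul_assoc]
  have hM0 : ∀ l ∈ L, l ∈ M 0 := fun l hl => ⟨l, hl, by
    show conjHom ρ (b ^ (0 : ℤ)) l = l
    rw [zpow_zero, conjHom_one]⟩
  have hDX : ∀ l ∈ L, x0 * l - l * x0 ∈ M 0 ⊔ M 1 ⊔ M 2 ∧ x0 * l * x0 ∈ M 0 ⊔ M 1 ⊔ M 2 := by
    intro l hl
    have h0 : l ∈ M 0 ⊔ M 1 ⊔ M 2 := AddSubgroup.mem_sup_left (AddSubgroup.mem_sup_left (hM0 l hl))
    have h1 : l + (x0 * l - l * x0) - x0 * l * x0 ∈ M 0 ⊔ M 1 ⊔ M 2 :=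
      AddSubgroup.mem_sup_left (AddSubgroup.mem_sup_right ⟨l, hl, by
        show conjHom ρ (b ^ (1 : ℤ)) l = _
        rw [zpow_one, hcb]⟩)
    have h2 : l - (x0 * l - l * x0) - x0 * l * x0 ∈ M 0 ⊔ M 1 ⊔ M 2 :=
      AddSubgroup.mem_sup_right ⟨l, hl, by
        show conjHom ρ (b ^ (-1 : ℤ)) l = _
        rw [zpow_neg_one, hcb']⟩
    refine ⟨mem_of_two hodd hR ?_, mem_of_two hodd hR ?_⟩
    · have e : (x0 * l - l * x0) + (x0 * l - l * x0) =
        (l + (x0 * l - l * x0) - x0 * l * x0) - (l - (x0 * l - l * x0) - x0 * l * x0) := by abel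
      rw [e]; exact sub_mem h1 h2
    · have e : x0 * l * x0 + x0 * l * x0 = l + l -
        ((l + (x0 * l - l * x0) - x0 * l * x0) + (l - (x0 * l - l * x0) - x0 * l * x0)) := by abel
      rw [e]; exact sub_mem (add_mem h0 h0) (add_mem h1 h2)
  -- the limit
  set L' := limit L (w x0) (u x0) with hL'
  have hL'good : Good ρ L' := by
    refine ⟨fun y hy y' hy' => limit_mul_eq_zero x0 hb0 hL.1 hy hy', fun y hy => ?_⟩
    obtain ⟨q2, hq2, q3, hq3, q4, hq4, he⟩ := exists_expr x0 hb0 hy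
    have hmem : y ∈ M 0 ⊔ M 1 ⊔ M 2 := by
      rw [he]
      exact sub_mem (add_mem (AddSubgroup.mem_sup_left (AddSubgroup.mem_sup_left (hM0 q2 hq2)))
        (hDX q3 hq3).1) (hDX q4 hq4).2
    obtain ⟨s, hs, c, hc, rfl⟩ := AddSubgroup.mem_sup.mp hmem
    obtain ⟨a, ha, a', ha', rfl⟩ := AddSubgroup.mem_sup.mp hs
    exact add_mem_of_sq hodd hR (MonoidHom.mrange ρ) M hMsq hMΓ hMN ha ha' hc
      (limit_mul_eq_zero x0 hb0 hL.1 hy hy)
  have hL'S : L' ∈ S := by
    refine ⟨hL'good, hLc.trans ?_, hLa.trans ?_⟩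
    · exact card_le_limit L (w_mul_u x0 hb0) (w_mul_u x0 hb0)
    · refine (card_le_limit (annR L) (w_mul_u x0 hb0)
        (one_mul (1 : R[X]) |>.trans (pow_zero X).symm)).trans (AddSubgroup.card_le_of_le ?_)
      intro r hr a ha
      exact ann_limit_mul x0 hb0 (L := L) (B := annR L) (fun a ha r hr => hr a ha) ha hr
  have hFx : ∀ i, ∀ q ∈ fix ρ i, x0 * q - q * x0 ∈ fix ρ i ∧ x0 * q * x0 ∈ fix ρ i := by
    intro i q hq
    have h1 := fix_invariant ρ i b hq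
    have h2 := fix_invariant ρ i b⁻¹ hq
    rw [hcb] at h1
    rw [hcb'] at h2
    refine ⟨mem_of_two hodd hR ?_, mem_of_two hodd hR ?_⟩
    · have e : (x0 * q - q * x0) + (x0 * q - q * x0) =
        (q + (x0 * q - q * x0) - x0 * q * x0) - (q - (x0 * q - q * x0) - x0 * q * x0) := by abel
      rw [e]; exact sub_mem h1 h2
    · have e : x0 * q * x0 + x0 * q * x0 = q + q -
        ((q + (x0 * q - q * x0) - x0 * q * x0) + (q - (x0 * q - q * x0) - x0 * q * x0)) := by abel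
      rw [e]; exact sub_mem (add_mem hq hq) (add_mem h1 h2)
  have hmono : ∀ i, Nat.card (L ⊓ fix ρ i : AddSubgroup R) ≤ Nat.card (L' ⊓ fix ρ i : AddSubgroup R) := by
    intro i
    refine (card_le_limit _ (w_mul_u x0 hb0) (w_mul_u x0 hb0)).trans
      (AddSubgroup.card_le_of_le (le_inf (limit_mono inf_le_left _ _) ?_))
    intro y hy
    obtain ⟨q2, hq2, q3, hq3, q4, hq4, rfl⟩ := exists_expr x0 hb0 hy
    exact sub_mem (add_mem hq2.2 (hFx i q3 hq3.2).1) (hFx i q4 hq4.2).2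
  -- a level moved by `x₀`
  have hmove : ∃ i, ∃ l ∈ L ⊓ fix ρ i, ¬ (x0 * l - l * x0 ∈ L ∧ x0 * l * x0 ∈ L) := by
    by_contra hno
    push Not at hno
    apply hbA
    have hin : ∀ l ∈ L, conjHom ρ b l ∈ L ∧ conjHom ρ b⁻¹ l ∈ L := fun l hl => by
      obtain ⟨h1, h2⟩ := hno N l ⟨hl, hN ▸ AddSubgroup.mem_top l⟩
      rw [hcb, hcb']
      exact ⟨sub_mem (add_mem hl h1) h2, sub_mem (sub_mem hl h1) h2⟩
    refine Subgroup.mem_normalizer_iff.mpr fun x => ⟨fun hx => ?_, fun hx => ?_⟩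
    · rw [hmemA, ← conjHom_sub_one]; exact (hin _ hx).1
    · have := (hin _ hx).2
      rw [conjHom_sub_one] at this
      rw [hmemA]
      simpa [mul_assoc] using this
  obtain ⟨hi, hmin⟩ : ∃ hi : ∃ i, ∃ l ∈ L ⊓ fix ρ i, ¬ (x0 * l - l * x0 ∈ L ∧ x0 * l * x0 ∈ L), True :=
    ⟨hmove, trivial⟩
  clear hmin
  set i := Nat.find hi with hidef
  obtain ⟨l, ⟨hlL, hli⟩, hlbad⟩ := Nat.find_spec hi
  rw [← hidef] at hli
  obtain ⟨j, hj⟩ : ∃ j, i = j + 1 := Nat.exists_eq_add_one.mpr (Nat.pos_of_ne_zero fun h0 => by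
    rw [h0] at hli
    rw [show l = 0 from AddSubgroup.mem_bot.mp hli] at hlbad
    exact hlbad ⟨by simp, by simp⟩)
  have hjN : j < N := by
    by_contra hle
    push Not at hle
    have hle' : i ≤ N := Nat.find_le ⟨l, ⟨hlL, hN ▸ AddSubgroup.mem_top l⟩, hlbad⟩
    omega
  have hstab : ∀ k ∈ L ⊓ fix ρ j, x0 * k - k * x0 ∈ L ∧ x0 * k * x0 ∈ L := fun k hk => by
    by_contra h
    exact Nat.find_min hi (show j < i by omega) ⟨k, hk, h⟩
  have hstab' : L ⊓ fix ρ j ≤ L' := fun k hk =>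
    mem_limit_of_stable x0 hk.1 (hstab k hk).1 (hstab k hk).2
  rw [hj] at hli
  have hd : x0 * l - l * x0 ∈ fix ρ j ∧ x0 * l * x0 ∈ fix ρ j := by
    have h1 := (mem_fix_succ ρ).mp hli b
    have h2 := (mem_fix_succ ρ).mp hli b⁻¹
    rw [hcb] at h1
    rw [hcb'] at h2
    refine ⟨mem_of_two hodd hR ?_, mem_of_two hodd hR ?_⟩
    · have e : (x0 * l - l * x0) + (x0 * l - l * x0) =
        (l + (x0 * l - l * x0) - x0 * l * x0 - l) - (l - (x0 * l - l * x0) - x0 * l * x0 - l) := by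
        abel
      rw [e]; exact sub_mem h1 h2
    · have e : x0 * l * x0 + x0 * l * x0 =
        -((l + (x0 * l - l * x0) - x0 * l * x0 - l) + (l - (x0 * l - l * x0) - x0 * l * x0 - l)) := by
        abel
      rw [e]; exact neg_mem (add_mem h1 h2)
  have hnew : ∃ y, y ∈ L' ⊓ fix ρ j ∧ y ∉ L := by
    obtain ⟨htop, htop'⟩ := top_terms x0 hb0 hlL
    by_cases hk : -(x0 * l * x0) ∈ L
    · have hkj : -(x0 * l * x0) ∈ L ⊓ fix ρ j := ⟨hk, (fix ρ j).neg_mem hd.2⟩
      refine ⟨_, ⟨htop' hk (hstab _ hkj).1 (hstab _ hkj).2, hd.1⟩, fun h => hlbad ⟨h, ?_⟩⟩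
      simpa using neg_mem hk
    · exact ⟨_, ⟨htop, (fix ρ j).neg_mem hd.2⟩, hk⟩
  obtain ⟨y, hy, hyL⟩ := hnew
  have hlt : Nat.card (L ⊓ fix ρ j : AddSubgroup R) < Nat.card (L' ⊓ fix ρ j : AddSubgroup R) := by
    have hle : L ⊓ fix ρ j ≤ L' ⊓ fix ρ j := le_inf hstab' inf_le_right
    refine lt_of_le_of_ne (AddSubgroup.card_le_of_le hle) fun he => hyL ?_
    exact ((AddSubgroup.eq_of_le_of_card_ge hle he.ge).symm ▸ hy : y ∈ L ⊓ fix ρ j).1
  exact absurd (hmax L' hL'S) (not_le.mpr (Finset.sum_lt_sum (fun i _ => hmono i)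
    ⟨j, Finset.mem_range.mpr (by omega), hlt⟩))

end Cfsg.Agent.QuadLimit
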